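import Groth.Agent.GenFin.Basic

/-!
Generically finite morphisms: finite between affine opens, without separation hypotheses.
-/

universe u
open CategoryTheory CategoryTheory.Limits AlgebraicGeometry AlgSp Topology

set_option backward.isDefEq.respectTransparency false

namespace Groth.Agent.GenFin

open Groth.Agent.AlgSpLib

variable {S : Scheme.{u}}

/-- an affine open inside a nonempty open set -/
theorem exists_affine_open {X : Sp S} (hX : IsAlgSpace X) (hd : IsDecent X) {O : Set (Points X)} (hO : IsOpen O)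
    (hne : O.Nonempty) : ∃ (U : Over S) (a : (yon S).obj U ⟶ X), IsAffine U.left ∧ Nonempty ↥U.left ∧
      RepWith @IsOpenImmersion a ∧ Set.range (Points.map a) ⊆ O := by
  obtain ⟨M, fM, hfM, hsub, z, p, hp⟩ := SpQS.exists_schematic_open hX hd hO hne
  obtain ⟨m, rfl⟩ := (Points.schemeEquiv M).surjective p
  obtain ⟨A, hA, hmA, -⟩ := exists_isAffineOpen_mem_and_subset (U := (⊤ : M.left.Opens)) (x := m) trivial
  let V : Over S := Over.mk (A.ι ≫ M.hom)
  let iA : V ⟶ M := Over.homMk A.ι rfl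
  refine ⟨V, (yon S).map iA ≫ fM, hA, ⟨(⟨m, hmA⟩ : ↥A)⟩,
    repWith_comp ((repWith_yon_iff iA).2 (inferInstance : IsOpenImmersion A.ι)) hfM, ?_⟩
  rintro _ ⟨w, rfl⟩
  rw [Points.map_comp]
  exact hsub ⟨_, rfl⟩

theorem exists_affines {X Y : Sp S} (hX : IsAlgSpace X) (hY : IsAlgSpace Y) (hdX : IsDecent X) (hdY : IsDecent Y)
    (f : X ⟶ Y) (hft : LocP @LocallyOfFiniteType f) {x : Points X} (hx : IsGenericPoint x (Set.univ : Set (Points X)))
    {y : Points Y} (hy : IsGenericPoint y (Set.univ : Set (Points Y))) (hxy : Points.map f x = y)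
    (huniq : ∀ x', Points.map f x' = y → x' = x) :
    ∃ (U V : Over S) (a : (yon S).obj U ⟶ X) (b : (yon S).obj V ⟶ Y) (g : U ⟶ V),
      IsAffine U.left ∧ IsAffine V.left ∧ Nonempty ↥U.left ∧ RepWith @IsOpenImmersion a ∧ RepWith @IsOpenImmersion b ∧
        a ≫ f = (yon S).map g ≫ b ∧ IsFinite g.left := by
  have het : ∀ {F G : Sp S} {h : F ⟶ G}, RepWith @IsOpenImmersion h → RepWith @Etale h := fun h =>
    repWith_mono (fun _ _ g hg => by
      have : IsOpenImmersion g := hg
      exact (inferInstance : Etale g)) h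
  obtain ⟨V₀, b₀, hV₀, hV₀ne, hb₀, -⟩ := exists_affine_open hY hdY isOpen_univ ⟨y, trivial⟩
  have hrb : IsOpen (Set.range (Points.map b₀)) := by
    have e : Set.range (Points.map b₀) = Set.range (Points.ofPt b₀) := by
      ext z
      constructor
      · rintro ⟨w, rfl⟩
        obtain ⟨v, rfl⟩ := (Points.schemeEquiv V₀).surjective w
        exact ⟨v, (Points.ofPt_eq_map_ofScheme b₀ v)⟩
      · rintro ⟨v, rfl⟩
        exact ⟨_, (Points.ofPt_eq_map_ofScheme b₀ v).symm⟩
    rw [e]
    exact (isOpenMap_ofPt (repWith_universallyOpen_of_etale (het hb₀))).isOpen_range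
  have hyb := generic_mem_range hY (IsAlgSpace.yon_obj V₀) hb₀ hy ⟨Points.schemeEquiv V₀ hV₀ne.some⟩
  obtain ⟨U₀, a₀, hU₀, hU₀ne, ha₀, hsub⟩ := exists_affine_open hX hdX (hrb.preimage (Points.continuous_map f))
    ⟨x, show Points.map f x ∈ _ from hxy ▸ hyb⟩
  obtain ⟨h₀, hh₀⟩ := (exists_factor_iff (IsAlgSpace.yon_obj V₀) hY b₀ hb₀ (a₀ ≫ f)).2 (by
    rintro _ ⟨w, rfl⟩
    rw [Points.map_comp]
    exact hsub ⟨w, rfl⟩)
  obtain ⟨g₀, rfl⟩ := (yon S).map_surjective h₀
  have : LocallyOfFiniteType g₀.left := hft a₀ b₀ g₀ (het ha₀) (het hb₀) hh₀.symm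
  have hr : RepWith @LocallyOfFiniteType ((yon S).map g₀) := (repWith_yon_iff g₀).2 this
  have hl : LocP @LocallyOfFiniteType ((yon S).map g₀) := (locP_iff_repWith etST_lft (IsAlgSpace.yon_obj _) hr.1).2 hr
  have hmono : ∀ {W : Over S} {Z : Sp S} {c : (yon S).obj W ⟶ Z}, RepWith @IsOpenImmersion c →
      Function.Injective (Points.map c) ∧ IsOpenMap (Points.map c) := fun {W Z c} hc => by
    have ho : IsOpenMap (Points.map c) := by
      intro O hO
      have e : Points.map c '' O = Points.ofPt c '' (Points.schemeEquiv W ⁻¹' O) := by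
        ext z
        constructor
        · rintro ⟨w, hw, rfl⟩
          obtain ⟨v, rfl⟩ := (Points.schemeEquiv W).surjective w
          exact ⟨v, hw, (Points.ofPt_eq_map_ofScheme c v)⟩
        · rintro ⟨v, hv, rfl⟩
          exact ⟨_, hv, (Points.ofPt_eq_map_ofScheme c v).symm⟩
      rw [e]
      exact isOpenMap_ofPt (repWith_universallyOpen_of_etale (het hc)) _
        (hO.preimage (Points.continuous_ofPt (𝟙 _)))
    refine ⟨fun p q e => ?_, ho⟩
    obtain ⟨T, fst, snd, sq, hs⟩ := exists_repWith hc c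
    obtain ⟨v, rfl⟩ := (Points.schemeEquiv W).surjective p
    obtain ⟨v', rfl⟩ := (Points.schemeEquiv W).surjective q
    obtain ⟨l, hl₁, hl₂⟩ := sq.exists_lift (𝟙 _) (𝟙 _) rfl
    have hinj : Function.Injective snd.left := (hs : IsOpenImmersion snd.left).base_open.injective
    obtain ⟨r, hr₁, hr₂⟩ := exists_point_of_isPullback sq _ _ e
    obtain ⟨l', rfl⟩ := (yon S).map_surjective l
    have hl₂' : l' ≫ snd = 𝟙 _ := (yon S).map_injective (by rw [Functor.map_comp, CategoryTheory.Functor.map_id]; exact hl₂)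
    obtain ⟨r', rfl⟩ := (Points.schemeEquiv T).surjective r
    have hr' : r' = l'.left (snd.left r') := hinj (by
      rw [← Scheme.Hom.comp_apply, ← Over.comp_left, hl₂']; rfl)
    have e₁ : Points.map ((yon S).map l') (Points.schemeEquiv W (snd.left r')) = Points.schemeEquiv T r' := by
      show Points.map ((yon S).map l') (Points.ofScheme W (snd.left r')) = Points.ofScheme T r'
      rw [← Points.ofPt_eq_map_ofScheme, ofScheme_map, ← hr']
    rw [← hr₁, ← hr₂, ← e₁, ← Points.map_comp, ← Points.map_comp, hl₁, hl₂]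
  obtain ⟨hinjA, hoA⟩ := hmono ha₀
  obtain ⟨hinjB, -⟩ := hmono hb₀
  obtain ⟨x', hx'⟩ := generic_mem_range hX (IsAlgSpace.yon_obj U₀) ha₀ hx ⟨Points.schemeEquiv U₀ hU₀ne.some⟩
  obtain ⟨y', hy'⟩ := hyb
  have hx'g : IsGenericPoint x' (Set.univ : Set (Points ((yon S).obj U₀))) :=
    isGenericPoint_iff_specializes.2 fun z => iff_of_true
      ((Topology.IsOpenEmbedding.of_continuous_injective_isOpenMap (Points.continuous_map a₀) hinjA hoA).isInducing.specializes_iff.1
        (hx' ▸ hx.specializes (Set.mem_univ (Points.map a₀ z)))) trivial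
  have hy'g : IsGenericPoint y' (Set.univ : Set (Points ((yon S).obj V₀))) :=
    isGenericPoint_iff_specializes.2 fun z => iff_of_true
      ((Topology.IsOpenEmbedding.of_continuous_injective_isOpenMap (Points.continuous_map b₀) hinjB (hmono hb₀).2).isInducing.specializes_iff.1
        (hy' ▸ hy.specializes (Set.mem_univ (Points.map b₀ z)))) trivial
  have hcomm : ∀ z, Points.map b₀ (Points.map ((yon S).map g₀) z) = Points.map f (Points.map a₀ z) := fun z => by
    rw [← Points.map_comp, ← Points.map_comp, hh₀]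
  obtain ⟨V, b, U, g, a, hV, -, hUne, hb, ha, sq, hU, hg⟩ := exists_affine_finite (IsAlgSpace.yon_obj U₀)
    (IsAlgSpace.yon_obj V₀) (SpQS.isDecent_yon U₀) (SpQS.isDecent_yon V₀) ((yon S).map g₀) hl hx'g hy'g
    (hinjB (by rw [hcomm, hx', hxy, hy']))
    (fun z hz => hinjA (by rw [hx']; exact huniq _ (by rw [← hcomm, hz, hy'])))
    (Or.inr ((isSeparatedMor_iff_repWith (IsAlgSpace.yon_obj _) (IsAlgSpace.yon_obj _) hr.1).2
      ((repWith_yon_iff g₀).2 (inferInstance : IsSeparated g₀.left))))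
  refine ⟨U, V, a ≫ a₀, b ≫ b₀, g, hU, hV, hUne, repWith_comp ha ha₀, repWith_comp hb hb₀, ?_, hg⟩
  rw [Category.assoc, ← hh₀, reassoc_of% sq.w]

end Groth.Agent.GenFin
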