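import Groth.Agent.SpQS.FiniteDense
import Groth.Agent.SpQS.SchOpen
import Groth.Agent.AlgSpLib.Subspace
import Groth.Agent.S10485

/-!
Generically finite morphisms of integral algebraic spaces.
-/

universe u
open CategoryTheory CategoryTheory.Limits AlgebraicGeometry AlgSp Topology

set_option backward.isDefEq.respectTransparency false

namespace Groth.Agent.GenFin

open Groth.Agent.AlgSpLib

variable {S : Scheme.{u}}

theorem hasAt_dim_zero_iff {X : Sp S} (hX : IsAlgSpace X) (hd : IsDecent X) (x : Points X) :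
    HasAt (fun U u => ringKrullDim ↥(U.presheaf.stalk u) = 0) X x ↔ SpQS.IsMaxPt x := by
  obtain ⟨_, _⟩ := SpQS.t0_sober_of_decent hX hd
  rw [← SpQS.component_generic_iff_dim hX hd x, SpQS.component_generic_iff]

theorem isMaxPt_iff_eq {α : Type*} [TopologicalSpace α] [T0Space α] {x : α} (hx : IsGenericPoint x (Set.univ : Set α))
    (x' : α) : SpQS.IsMaxPt x' ↔ x' = x :=
  ⟨fun h => (h x (hx.specializes (Set.mem_univ x'))).symm,
    fun e z hz => e ▸ (hz.antisymm (e ▸ hx.specializes (Set.mem_univ z))).eq⟩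

/-- an open immersion hits the generic point -/
theorem generic_mem_range {X P : Sp S} (hX : IsAlgSpace X) (hP : IsAlgSpace P) {j : P ⟶ X}
    (hj : RepWith @IsOpenImmersion j) {x : Points X} (hx : IsGenericPoint x (Set.univ : Set (Points X)))
    (hne : Nonempty (Points P)) : x ∈ Set.range (Points.map j) := by
  have ho : IsOpen (Set.range (Points.map j)) := by
    obtain ⟨U, a, ha, has⟩ := hP.atlas
    have hcomp : RepWith @Etale (a ≫ j) :=
      repWith_comp ha (repWith_mono (fun _ _ g hg => by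
        have : IsOpenImmersion g := hg
        exact (inferInstance : Etale g)) hj)
    have e : Set.range (Points.map j) = Set.range (Points.ofPt (a ≫ j)) := by
      ext z
      constructor
      · rintro ⟨w, rfl⟩
        obtain ⟨v, rfl⟩ := ofPt_surjective has w
        exact ⟨v, rfl⟩
      · rintro ⟨v, rfl⟩
        exact ⟨Points.ofPt a v, rfl⟩
    rw [e]
    exact (isOpenMap_ofPt (repWith_universallyOpen_of_etale hcomp)).isOpen_range
  obtain ⟨p⟩ := hne
  exact (hx.specializes (Set.mem_univ (Points.map j p))).mem_open ho ⟨p, rfl⟩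

/-- finite over an open neighbourhood of the generic point -/
theorem exists_open_finite {X Y : Sp S} (hX : IsAlgSpace X) (hY : IsAlgSpace Y) (hdX : IsDecent X) (hdY : IsDecent Y)
    (f : X ⟶ Y) (hf : LocP @LocallyOfFiniteType f) {x : Points X} (hx : IsGenericPoint x (Set.univ : Set (Points X)))
    {y : Points Y} (hy : IsGenericPoint y (Set.univ : Set (Points Y))) (hxy : Points.map f x = y)
    (huniq : ∀ x', Points.map f x' = y → x' = x) (hqs : IsQuasiCompactMor f ∨ IsSeparatedMor f) :
    ∃ (Y' : Sp S) (j : Y' ⟶ Y), IsAlgSpace Y' ∧ RepWith @IsOpenImmersion j ∧ y ∈ Set.range (Points.map j) ∧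
      RepWith @IsFinite (pullback.fst j f) := by
  obtain ⟨_, _⟩ := SpQS.t0_sober_of_decent hX hdX
  obtain ⟨_, _⟩ := SpQS.t0_sober_of_decent hY hdY
  have hX0 : ∀ z : Points X, HasAt (fun U u => ringKrullDim ↥(U.presheaf.stalk u) = 0) X z ↔ z = x := fun z =>
    (hasAt_dim_zero_iff hX hdX z).trans (isMaxPt_iff_eq hx z)
  have hY0 : ∀ z : Points Y, HasAt (fun U u => ringKrullDim ↥(U.presheaf.stalk u) = 0) Y z ↔ z = y := fun z =>
    (hasAt_dim_zero_iff hY hdY z).trans (isMaxPt_iff_eq hy z)
  obtain ⟨Y', j, hY', hj, hdense, hfin⟩ := SpQS.exists_dense_finite hX hY f hf hdY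
    ((Set.finite_singleton x).subset fun z hz => (hX0 z).1 hz)
    ((Set.finite_singleton y).subset fun z hz => (hY0 z).1 hz)
    (fun z => by rw [hX0, hY0]; exact ⟨fun e => e ▸ hxy, huniq z⟩) hqs
  obtain ⟨z, -, w, -⟩ := hdense.inter_open_nonempty Set.univ isOpen_univ ⟨y, trivial⟩
  exact ⟨Y', j, hY', hj, generic_mem_range hY hY' hj hy ⟨w⟩, hfin⟩

/-- finite over an affine open of the target -/
theorem exists_affine_finite {X Y : Sp S} (hX : IsAlgSpace X) (hY : IsAlgSpace Y) (hdX : IsDecent X) (hdY : IsDecent Y)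
    (f : X ⟶ Y) (hf : LocP @LocallyOfFiniteType f) {x : Points X} (hx : IsGenericPoint x (Set.univ : Set (Points X)))
    {y : Points Y} (hy : IsGenericPoint y (Set.univ : Set (Points Y))) (hxy : Points.map f x = y)
    (huniq : ∀ x', Points.map f x' = y → x' = x) (hqs : IsQuasiCompactMor f ∨ IsSeparatedMor f) :
    ∃ (V : Over S) (b : (yon S).obj V ⟶ Y) (U : Over S) (g : U ⟶ V) (a : (yon S).obj U ⟶ X),
      IsAffine V.left ∧ Nonempty ↥V.left ∧ Nonempty ↥U.left ∧ RepWith @IsOpenImmersion b ∧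
        RepWith @IsOpenImmersion a ∧ IsPullback a ((yon S).map g) f b ∧ IsAffine U.left ∧ IsFinite g.left := by
  obtain ⟨Y', j, hY', hj, hyj, hfin⟩ := exists_open_finite hX hY hdX hdY f hf hx hy hxy huniq hqs
  have hjo : IsOpen (Set.range (Points.map j)) := by
    obtain ⟨U, a, ha, has⟩ := hY'.atlas
    have hcomp : RepWith @Etale (a ≫ j) :=
      repWith_comp ha (repWith_mono (fun _ _ g hg => by
        have : IsOpenImmersion g := hg
        exact (inferInstance : Etale g)) hj)
    have e : Set.range (Points.map j) = Set.range (Points.ofPt (a ≫ j)) := by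
      ext z
      constructor
      · rintro ⟨w, rfl⟩
        obtain ⟨v, rfl⟩ := ofPt_surjective has w
        exact ⟨v, rfl⟩
      · rintro ⟨v, rfl⟩
        exact ⟨Points.ofPt a v, rfl⟩
    rw [e]
    exact (isOpenMap_ofPt (repWith_universallyOpen_of_etale hcomp)).isOpen_range
  obtain ⟨M, fM, hfM, hsub, z, p, hp⟩ := SpQS.exists_schematic_open hY hdY hjo ⟨y, hyj⟩
  obtain ⟨m, rfl⟩ := (Points.schemeEquiv M).surjective p
  obtain ⟨A, hA, hmA, -⟩ := exists_isAffineOpen_mem_and_subset (U := (⊤ : M.left.Opens)) (x := m) trivial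
  let V : Over S := Over.mk (A.ι ≫ M.hom)
  let iA : V ⟶ M := Over.homMk A.ι rfl
  let b : (yon S).obj V ⟶ Y := (yon S).map iA ≫ fM
  have hb : RepWith @IsOpenImmersion b :=
    repWith_comp ((repWith_yon_iff iA).2 (inferInstance : IsOpenImmersion A.ι)) hfM
  have : IsAffine V.left := hA
  obtain ⟨h, hh⟩ := (exists_factor_iff hY' hY j hj b).2 (by
    rintro _ ⟨w, rfl⟩
    rw [Points.map_comp]
    exact hsub ⟨_, rfl⟩)
  have sqj := IsPullback.of_hasPullback j f
  obtain ⟨U, aU, g, sqU, hg⟩ := exists_repWith hfin h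
  have big := sqU.paste_horiz sqj.flip
  rw [hh] at big
  have : IsFinite g.left := hg
  have ha : RepWith @IsOpenImmersion (aU ≫ pullback.snd j f) := repWith_baseChange big.flip hb
  have hVne : Nonempty ↥V.left := ⟨(⟨m, hmA⟩ : ↥A)⟩
  have hyb : y ∈ Set.range (Points.map b) :=
    generic_mem_range hY (IsAlgSpace.yon_obj V) hb hy ⟨Points.schemeEquiv V hVne.some⟩
  obtain ⟨v, hv⟩ := hyb
  obtain ⟨q, -, -⟩ := exists_point_of_isPullback big x v (hxy.trans hv.symm)
  exact ⟨V, b, U, g, aU ≫ pullback.snd j f, ‹_›, hVne, ⟨(Points.schemeEquiv U).symm q⟩, hb, ha, big,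
    isAffine_of_isAffineHom g.left, ‹_›⟩

/-- generic finiteness gives a unique point over the generic point -/
theorem unique_of_finite {X Y : Space S} (hXi : IsIntegralSp X.obj) (hYi : IsIntegralSp Y.obj) (f : X ⟶ Y)
    (hft : LocP @LocallyOfFiniteType f.hom) (hd : IsDominantMor f.hom) {x : Points X.obj}
    (hx : IsGenericPoint x (Set.univ : Set (Points X.obj))) {y : Points Y.obj}
    (hy : IsGenericPoint y (Set.univ : Set (Points Y.obj))) {W T : Over S} {a : (yon S).obj W ⟶ X.obj}
    {b : (yon S).obj T ⟶ Y.obj} {h : W ⟶ T} (ha : RepWith @Etale a) (hb : RepWith @Etale b)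
    (comm : a ≫ f.hom = (yon S).map h ≫ b) (hfin : IsFinite h.left) (hxa : x ∈ Set.range (Points.ofPt a)) :
    ∀ x' : Points X.obj, Points.map f.hom x' = y → x' = x := by
  obtain ⟨w, hw⟩ := hxa
  refine (S10485.result hXi hYi f hft hd x hx y hy).1 ⟨W, T, a, b, h, w, ha, hb, comm, hw, ⊤, trivial, ?_, ?_⟩
  · exact (inferInstance : LocallyQuasiFinite ((⊤ : W.left.Opens).ι ≫ h.left))
  · exact (inferInstance : LocallyOfFiniteType ((⊤ : W.left.Opens).ι ≫ h.left))

end Groth.Agent.GenFin
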